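import Cfsg.Agent.Mrg.Omega.FFBr.Act
import Cfsg.Agent.MinSimple.VModule

section


/-!
# NO-3S, SymBig, stage `-1`: the FF step ((1)(c) and (2) of helper28's bb #21330), definitions

* `Stp V Q T R M0 D E M h Rel` : the situation: `R` is minimal over `T` outside `M0`, `D ≤ V` is centralised by `R`,
  `C_R(u) ≤ M0` for `u ∈ V - D`, `M = ⟨h^R⟩ D`, `[h, T] ≤ D`, `[h, O₂(R)] ≤ E ≤ D`, every `B ∈ Rel` (the groups
  `A₀ = C_A(V)`) satisfies `|M : C_M(B)| ≤ |B : B ∩ O₂(R)|`, one of them is not in `O₂(R)`, and an element `u ∈ M` which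
  is centralised by all `B ∈ Rel` is in `V` or has `{[q,u]} = V` (LEMMA Y).
* `Out …` : the conclusion: `R` acts on `M / D` as (a group with normal subgroup) `SL₂(q)` on the natural module and
  `(V ∩ M) / D` is the line fixed by the images of the `B ∈ Rel`.
-/

set_option autoImplicit false

namespace Cfsg.Agent.Omega.NO3S.SN2.FF

open Subgroup Cfsg.Agent.Lib.SL2Mat
open Cfsg.Agent.ZN
open Cfsg.Agent.Omega.NatPair (ap)

universe u

/-- The situation of the FF step. -/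
structure Stp {G : Type u} [Group G] (V Q T R M0 D E M : Subgroup G) (h : G) (Rel : Set (Subgroup G)) : Prop where
  TR : T ≤ R
  TM : T ≤ M0
  two : IsPGroup 2 T
  syl : ¬ 2 ∣ T.relIndex R
  notM : ¬ R ≤ M0
  min : ∀ K : Subgroup G, T ≤ K → K ≤ R → ¬ K ≤ M0 → K = R
  Vc : ∀ v ∈ V, ∀ w ∈ V, v * w = w * v
  Vs : ∀ v ∈ V, v * v = 1
  Mc : ∀ v ∈ M, ∀ w ∈ M, v * w = w * v
  Ms : ∀ v ∈ M, v * v = 1
  DV : D ≤ V
  Dc : ∀ d ∈ D, ∀ g ∈ R, g * d = d * g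
  /-- `C_R(u) ≤ M0` for `u ∈ V - D` -/
  st : ∀ u ∈ V, u ∉ D → ∀ g ∈ R, g * u = u * g → g ∈ M0
  hV : h ∈ V
  hD : h ∉ D
  hT : ∀ t ∈ T, t * h * t⁻¹ * h⁻¹ ∈ D
  ED : E ≤ D
  hO : ∀ t ∈ o2 R, t * h * t⁻¹ * h⁻¹ ∈ E
  hM : h ∈ M
  DM : D ≤ M
  RM : R ≤ normalizer (M : Set G)
  Mgen : ∀ K : Subgroup G, D ≤ K → (∀ x ∈ R, x * h * x⁻¹ ∈ K) → M ≤ K
  QT : Q ≤ T
  QV : Q ≤ centralizer (V : Set G)
  relQ : ∀ B ∈ Rel, B ≤ Q
  relc : ∀ B ∈ Rel, ∀ a ∈ B, ∀ b ∈ B, a * b = b * a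
  rels : ∀ B ∈ Rel, ∀ a ∈ B, a * a = 1
  /-- `|M : C_M(B)| ≤ |B : B ∩ O₂(R)|` -/
  rel : ∀ B ∈ Rel, (centralizer (B : Set G)).relIndex M ≤ (o2 R).relIndex B
  ex : ∃ B ∈ Rel, ¬ B ≤ o2 R
  /-- LEMMA Y -/
  lemY : ∀ u ∈ M, (∀ B ∈ Rel, ∀ b ∈ B, b * u = u * b) → u ∈ V ∨ ∀ v ∈ V, ∃ q ∈ Q, q * u * q⁻¹ = v * u
  /-- if `D ≤ E` then `T` is not abelian on `V / D` -/
  na : D ≤ E → ∃ s ∈ T, ∃ t ∈ T, ∃ v ∈ V, s * t * s⁻¹ * t⁻¹ * v * (s * t * s⁻¹ * t⁻¹)⁻¹ * v⁻¹ ∉ D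

/-- The conclusion of the FF step. -/
structure Out {G : Type u} [Group G] (F : Type) [Field F] (V Q T R M0 D E M : Subgroup G) (h : G)
    (Rel : Set (Subgroup G)) where
  /-- coordinates of `M / D` -/
  e : G → Fin 2 → F
  mul : ∀ v ∈ M, ∀ w ∈ M, e (v * w) = e v + e w
  surj : ∀ x : Fin 2 → F, ∃ v ∈ M, e v = x
  ker : ∀ v ∈ M, e v = 0 ↔ v ∈ D
  lift : ∀ A : Matrix.SpecialLinearGroup (Fin 2) F, ∃ g ∈ R, ∀ v ∈ M, e (g * v * g⁻¹) = ap A (e v)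
  norm : ∀ g ∈ R, ∀ x ∈ R, ∀ A : Matrix.SpecialLinearGroup (Fin 2) F, (∀ v ∈ M, e (x * v * x⁻¹) = ap A (e v)) →
    ∃ B : Matrix.SpecialLinearGroup (Fin 2) F, ∀ v ∈ M, e (g * x * g⁻¹ * v * (g * x * g⁻¹)⁻¹) = ap B (e v)
  /-- `V ∩ M` is the line -/
  line : ∀ v ∈ M, v ∈ V ↔ e v 1 = 0
  /-- the members of `Rel` act as the full root group or trivially -/
  root : ∀ B ∈ Rel, ¬ B ≤ o2 R → (∀ b ∈ B, ∃ c : F, ∀ v ∈ M, e (b * v * b⁻¹) = ap (up c) (e v)) ∧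
    ∀ c : F, ∃ b ∈ B, ∀ v ∈ M, e (b * v * b⁻¹) = ap (up c) (e v)
  /-- exactness -/
  eq : ∀ B ∈ Rel, ∀ u ∈ M, (∀ b ∈ B, b * u * b⁻¹ * u⁻¹ ∈ D) → ∀ b ∈ B, b * u = u * b
  /-- (N1) -/
  card : D.relIndex (V ⊓ M) = Nat.card F
  cardM : D.relIndex M = Nat.card F ^ 2
  /-- (F1) -/
  F1 : ∀ B ∈ Rel, ¬ B ≤ o2 R → (o2 R).relIndex B = D.relIndex (V ⊓ M)
  /-- (F2) -/
  F2 : ∀ B ∈ Rel, ∀ b ∈ B, ∀ m ∈ M, b * m * b⁻¹ * m⁻¹ ∈ V
  /-- (F3) -/
  F3 : ∀ B ∈ Rel, ∀ c ∈ B, c ∉ o2 R → ∀ x ∈ R, x ∉ M0 → x * c * x⁻¹ ∉ M0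
  /-- `M0` stabilises the line, and is the stabiliser of the line -/
  stab : ∀ g ∈ R, g ∈ M0 ↔ ∀ v ∈ V ⊓ M, g * v * g⁻¹ ∈ V ⊓ M
  /-- the kernel of `R` on `M / D` -/
  kerR : ∀ g ∈ R, (∀ v ∈ M, g * v * g⁻¹ * v⁻¹ ∈ D) → g ∈ M0 ∧ ∀ v ∈ M, g * v * g⁻¹ * v⁻¹ ∈ E

end Cfsg.Agent.Omega.NO3S.SN2.FF

end

section


/-!
# From a minimal situation to `FFBr.Abs`

`Γ` acts on the elementary abelian 2-group `N`, `P` is a Sylow 2-subgroup of `Γ` and `M₁` the unique maximal subgroup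
over it, `N` is generated by the conjugates of the fixed points of `P`, not all of which are fixed by `Γ`: the group
`XG Γ N` induced by `Γ` on `N` satisfies `FFBr.Abs`.
-/

set_option autoImplicit false
set_option linter.unusedSectionVars false

namespace Cfsg.Agent.Omega.NO3S.SN2.FF

open Subgroup Cfsg Cfsg.Agent.Omega.FFBr
open Cfsg.Agent.MinSimple.MinParabolic

universe u

section act

variable (Γ N : Type u) [Group Γ] [Group N] [MulDistribMulAction Γ N]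

/-- the group induced by `Γ` on `N` -/
abbrev XG : Subgroup (MulAut N) := (MulDistribMulAction.toMulAut Γ N).range

/-- the projection -/
def prG : Γ →* XG Γ N := (MulDistribMulAction.toMulAut Γ N).rangeRestrict

variable {Γ N}

theorem prG_surjective : Function.Surjective (prG Γ N) := (MulDistribMulAction.toMulAut Γ N).rangeRestrict_surjective

theorem prG_smul (g : Γ) (v : N) : prG Γ N g • v = g • v := rfl

theorem prG_eq_iff {g h : Γ} : prG Γ N g = prG Γ N h ↔ ∀ v : N, g • v = h • v := by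
  constructor
  · intro h1 v
    rw [← prG_smul, h1, prG_smul]
  · intro h1
    apply Subtype.ext
    apply MulEquiv.ext
    exact h1

theorem prG_eq_one {g : Γ} : prG Γ N g = 1 ↔ ∀ v : N, g • v = v := by
  rw [← map_one (prG Γ N), prG_eq_iff]
  simp only [one_smul]

end act

variable {Γ N : Type u} [Group Γ] [Finite Γ] [Group N] [Finite N] [MulDistribMulAction Γ N]

theorem ker_le {P : Sylow 2 Γ} {M₁ : Subgroup Γ} (hm : IsMin (P : Subgroup Γ) M₁)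
    (nfix : ∃ v : N, (∀ t ∈ P, t • v = v) ∧ ∃ x : Γ, x • v ≠ v) :
    (prG Γ N).ker ≤ M₁ ∧ (P : Subgroup Γ) ≤ M₁ := by
  obtain ⟨v, h1, x, h2⟩ := nfix
  have h3 : MulAction.stabilizer Γ v ≤ M₁ := by
    refine hm.le_of _ (fun t ht => h1 t ht) fun h4 => h2 ?_
    have : x ∈ MulAction.stabilizer Γ v := by rw [h4]; trivial
    exact this
  refine ⟨fun g hg => h3 ?_, fun t ht => h3 (h1 t ht)⟩
  rw [MonoidHom.mem_ker, prG_eq_one] at hg
  exact hg v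

/-- **The abstract situation.** -/
theorem abs_of_act {P : Sylow 2 Γ} {M₁ : Subgroup Γ} (hm : IsMin (P : Subgroup Γ) M₁)
    (comm : ∀ v w : N, v * w = w * v) (sq : ∀ v : N, v * v = 1)
    (gen : ∀ W : Subgroup N, (∀ v : N, (∀ t ∈ P, t • v = v) → ∀ x : Γ, x • v ∈ W) → W = ⊤)
    (nfix : ∃ v : N, (∀ t ∈ P, t • v = v) ∧ ∃ x : Γ, x • v ≠ v) :
    ∃ S : Sylow 2 (XG Γ N), (S : Subgroup (XG Γ N)) = (P : Subgroup Γ).map (prG Γ N) ∧
      Abs (XG Γ N) N S (M₁.map (prG Γ N)) := by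
  have hfact : Fact (Nat.Prime 2) := ⟨Nat.prime_two⟩
  obtain ⟨hkM, hPM⟩ := ker_le hm nfix
  obtain ⟨S, hS⟩ : ∃ S : Sylow 2 (XG Γ N), (S : Subgroup (XG Γ N)) = (P : Subgroup Γ).map (prG Γ N) :=
    ⟨P.mapSurjective (f := prG Γ N) prG_surjective, Sylow.coe_mapSurjective _ _⟩
  have hMc : (M₁.map (prG Γ N)).comap (prG Γ N) = M₁ := by
    rw [comap_map_eq, sup_eq_left]
    exact hkM
  have hfaith : ∀ x : XG Γ N, (∀ v : N, x • v = v) → x = 1 := by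
    intro x hx
    apply Subtype.ext
    apply MulEquiv.ext
    exact hx
  have hTmem : ∀ t ∈ P, prG Γ N t ∈ (S : Subgroup (XG Γ N)) := by
    intro t ht
    rw [hS]
    exact ⟨t, ht, rfl⟩
  have hTfix : ∀ v : N, (∀ t ∈ S, t • v = v) ↔ ∀ t ∈ P, t • v = v := by
    intro v
    constructor
    · intro h t ht
      exact h _ (hTmem t ht)
    · intro h t ht
      have ht' : t ∈ (S : Subgroup (XG Γ N)) := ht
      rw [hS] at ht'
      obtain ⟨s, hs, rfl⟩ := ht'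
      exact h s hs
  refine ⟨S, hS, ?_⟩
  refine
    { comm := comm
      sq := sq
      faith := hfaith
      core := ?_
      TM := by
        rw [hS]
        exact map_mono hPM
      Mne := ?_
      max := ?_
      gen := ?_
      nfix := ?_ }
  · intro K hK hK2
    have h8 : K ≤ (S : Subgroup (XG Γ N)) := by
      have h9 : IsPGroup 2 ((S : Subgroup (XG Γ N)) ⊔ K : Subgroup (XG Γ N)) :=
        S.isPGroup'.to_sup_of_normal_right hK2
      have h10 := S.is_maximal' h9 le_sup_left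
      rw [← h10]
      exact le_sup_right
    -- the fixed points of `K`
    have hWm : ∀ v : N, ∀ k ∈ K, k • v = v := by
      have hW := gen
        { carrier := {v | ∀ k ∈ K, k • v = v}
          one_mem' := fun k _ => smul_one k
          mul_mem' := fun {a b} ha hb k hk => by rw [smul_mul', ha k hk, hb k hk]
          inv_mem' := fun {a} ha k hk => by rw [smul_inv', ha k hk] } (by
          intro v hv g k hk
          have h1 := (hTfix v).2 hv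
          have h2 : (prG Γ N g)⁻¹ * k * prG Γ N g ∈ K := by
            have := hK.conj_mem k hk (prG Γ N g)⁻¹
            rwa [inv_inv] at this
          have h3 := h1 _ (h8 h2)
          rw [mul_smul, mul_smul, inv_smul_eq_iff] at h3
          exact h3)
      intro v k hk
      have h1 : v ∈ (⊤ : Subgroup N) := mem_top v
      rw [← hW] at h1
      exact h1 k hk
    rw [eq_bot_iff]
    intro x hx
    rw [mem_bot]
    exact hfaith x fun v => hWm v x hx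
  · intro h5
    apply hm.ne_top
    rw [← hMc, h5, comap_top]
  · intro K hK
    rw [hS, map_le_iff_le_comap] at hK
    by_cases hK1 : K.comap (prG Γ N) = ⊤
    · right
      rw [← map_comap_eq_self_of_surjective prG_surjective K, hK1, map_top_of_surjective _ prG_surjective]
    · left
      have h5 := hm.le_of _ hK hK1
      rw [← map_comap_eq_self_of_surjective prG_surjective K]
      exact map_mono h5
  · intro W hW
    exact gen W fun v hv x => hW v ((hTfix v).2 hv) (prG Γ N x)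
  · obtain ⟨v, h1, x, h2⟩ := nfix
    exact ⟨v, (hTfix v).2 h1, prG Γ N x, h2⟩

end Cfsg.Agent.Omega.NO3S.SN2.FF

end

section


/-!
# The FF step: basic facts

* `Stp.gen_le` : `R = ⟨elements of odd order, T⟩`;
* `odd_comm` : an element of odd order of `R` which fixes `uD` centralises `u`;
* `Stp.kerT` : an element of `T` which is trivial on `M / D` is in `O₂(R)`;
* `Stp.ker_M0`, `Stp.ker_E` : the kernel of `R` on `M / D` is in `M0` and `[M, ker] ≤ E`.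
-/

set_option autoImplicit false
set_option linter.unusedSectionVars false

namespace Cfsg.Agent.Omega.NO3S.SN2.FF

open Subgroup Cfsg Cfsg.Agent.ZN Cfsg.Agent.Omega.FFBr
open Cfsg.Agent.MinSimple.MinParabolic Cfsg.Agent.MinSimple.VModule

universe u

variable {G : Type u} [Group G]

/-- An element of odd order which fixes `uD` (`D` central, exponent 2) centralises `u`. -/
theorem odd_comm {g u d : G} (ho : Odd (orderOf g)) (h1 : g * u * g⁻¹ = d * u) (h2 : g * d = d * g)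
    (hd : d * d = 1) : g * u = u * g := by
  have key : ∀ n : ℕ, g ^ n * u * (g ^ n)⁻¹ = d ^ n * u := by
    intro n
    induction n with
    | zero => simp
    | succ n ih =>
      have e1 : g ^ (n + 1) * u * (g ^ (n + 1))⁻¹ = g * (g ^ n * u * (g ^ n)⁻¹) * g⁻¹ := by
        rw [pow_succ']; group
      have hc : Commute g (d ^ n) := (show Commute g d from h2).pow_right n
      have e2 : g * (d ^ n * u) * g⁻¹ = d ^ n * (g * u * g⁻¹) := by
        calc g * (d ^ n * u) * g⁻¹ = (g * d ^ n) * u * g⁻¹ := by group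
          _ = (d ^ n * g) * u * g⁻¹ := by rw [hc.eq]
          _ = _ := by group
      rw [e1, ih, e2, h1, ← mul_assoc, ← pow_succ]
  have h3 := key (orderOf g)
  rw [pow_orderOf_eq_one] at h3
  simp only [one_mul, inv_one, mul_one] at h3
  obtain ⟨k, hk⟩ := ho
  have h4 : d ^ orderOf g = d := by
    rw [hk, pow_succ, pow_mul, sq, hd, one_pow, one_mul]
  rw [h4] at h3
  have h5 : d = 1 := by
    have := mul_right_cancel (h3.symm.trans (one_mul u).symm)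
    exact this
  rw [h5, one_mul, mul_inv_eq_iff_eq_mul] at h1
  exact h1

/-- two-part and odd part -/
theorem exists_parts [Finite G] (g : G) : ∃ a b : ℕ, g = g ^ a * g ^ b ∧ (∃ n, (g ^ a) ^ 2 ^ n = 1) ∧
    Odd (orderOf (g ^ b)) := by
  obtain ⟨k, r, hr, hk⟩ := Nat.exists_eq_two_pow_mul_odd (orderOf_pos g).ne'
  have hco : Nat.Coprime (2 ^ k) r := Nat.Coprime.pow_left k (Nat.coprime_two_left.2 hr)
  obtain ⟨a, ha1, ha2⟩ := Nat.chineseRemainder hco 1 0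
  obtain ⟨b, hb1, hb2⟩ := Nat.chineseRemainder hco 0 1
  refine ⟨a, b, ?_, ⟨k, ?_⟩, ?_⟩
  · rw [← pow_add]
    conv_lhs => rw [← pow_one g]
    rw [pow_eq_pow_iff_modEq, hk]
    refine (Nat.modEq_and_modEq_iff_modEq_mul hco).1 ⟨?_, ?_⟩
    · have := ha1.add hb1
      exact this.symm
    · have := ha2.add hb2
      exact this.symm
  · rw [← pow_mul]
    obtain ⟨c, hc⟩ := (Nat.modEq_zero_iff_dvd).1 ha2
    rw [hc, show r * c * 2 ^ k = orderOf g * c by rw [hk]; ring, pow_mul, pow_orderOf_eq_one, one_pow]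
  · have h1 : (g ^ b) ^ r = 1 := by
      rw [← pow_mul]
      obtain ⟨c, hc⟩ := (Nat.modEq_zero_iff_dvd).1 hb1
      rw [hc, show 2 ^ k * c * r = orderOf g * c by rw [hk]; ring, pow_mul, pow_orderOf_eq_one, one_pow]
    exact Odd.of_dvd_nat hr (orderOf_dvd_of_pow_eq_one h1)

variable [Finite G] {V Q T R M0 D E M : Subgroup G} {h : G} {Rel : Set (Subgroup G)}

namespace Stp

variable (s : Stp V Q T R M0 D E M h Rel)
include s

/-- the Sylow subgroup `T` of `R` -/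
theorem exists_sylow : ∃ P : Sylow 2 R, (P : Subgroup R) = T.subgroupOf R := by
  have hfact : Fact (Nat.Prime 2) := ⟨Nat.prime_two⟩
  have h1 : IsPGroup 2 (T.subgroupOf R) := s.two.comap_of_injective _ R.subtype_injective
  exact ⟨h1.toSylow s.syl, rfl⟩

theorem isMin {P : Sylow 2 R} (hP : (P : Subgroup R) = T.subgroupOf R) :
    IsMin (P : Subgroup R) (M0.subgroupOf R) where
  ne_top h1 := s.notM (subgroupOf_eq_top.1 h1)
  le_of K hK hK1 := by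
    by_contra hcon
    apply hK1
    have h2 : K.map R.subtype = R := by
      apply s.min
      · rw [hP] at hK
        have := map_mono (f := R.subtype) hK
        rwa [subgroupOf_map_subtype, inf_eq_left.2 s.TR] at this
      · exact map_subtype_le _
      · intro h3
        apply hcon
        rw [Subgroup.subgroupOf, ← map_le_iff_le_comap]
        exact h3
    have h5 := comap_map_eq_self_of_injective R.subtype_injective K
    rw [← h5, h2]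
    exact subgroupOf_self R

/-- a subgroup which contains `T` and the elements of odd order -/
theorem gen_le {K : Subgroup G} (hT : T ≤ K) (ho : ∀ g ∈ R, Odd (orderOf g) → g ∈ K) : R ≤ K := by
  have hfact : Fact (Nat.Prime 2) := ⟨Nat.prime_two⟩
  have hN : ((oddGen R).subgroupOf R).Normal := normal_subgroupOf_of_le_normalizer (le_normalizer_oddGen R)
  have h1 : IsPGroup 2 (R ⧸ (oddGen R).subgroupOf R) := by
    intro q
    obtain ⟨x, rfl⟩ := QuotientGroup.mk_surjective q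
    obtain ⟨a, m, hm, ha⟩ := Nat.exists_eq_pow_mul_and_not_dvd (orderOf_pos (x : G)).ne' 2 (by norm_num)
    refine ⟨a, ?_⟩
    rw [← QuotientGroup.mk_pow, QuotientGroup.eq_one_iff, mem_subgroupOf]
    refine mem_oddGen (R.pow_mem x.2 _) ?_
    have hm0 : 0 < m := Nat.pos_of_ne_zero (by rintro rfl; simp at hm)
    have h2 : orderOf ((x : G) ^ 2 ^ a) = m := by
      rw [orderOf_pow_of_dvd (by positivity) (ha ▸ Dvd.intro _ rfl), ha, Nat.mul_div_cancel_left _ (by positivity)]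
    rw [coe_pow, h2]
    exact Nat.not_even_iff_odd.1 fun h => hm h.two_dvd
  obtain ⟨k, hk⟩ := IsPGroup.iff_card.1 h1
  have h2 : (oddGen R ⊔ T).relIndex R ∣ 2 ^ k := by
    have h3 : (oddGen R ⊔ T).relIndex R ∣ (oddGen R).relIndex R := relIndex_dvd_of_le_left _ le_sup_left
    have h4 : (oddGen R).relIndex R = 2 ^ k := by
      rw [← hk, relIndex, index_eq_card]
    rwa [h4] at h3
  obtain ⟨j, -, hj⟩ := (Nat.dvd_prime_pow Nat.prime_two).1 h2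
  have h5 : (oddGen R ⊔ T).relIndex R ∣ T.relIndex R := relIndex_dvd_of_le_left _ le_sup_right
  rw [hj] at h5
  have h6 : R ≤ oddGen R ⊔ T := by
    rcases Nat.eq_zero_or_pos j with rfl | hj0
    · rw [pow_zero] at hj
      exact relIndex_eq_one.1 hj
    · exact absurd ((dvd_pow_self 2 hj0.ne').trans h5) s.syl
  refine h6.trans (sup_le ?_ hT)
  rw [oddGen_def, closure_le]
  exact fun x hx => ho x hx.1 hx.2

theorem Ds {d : G} (hd : d ∈ D) : d * d = 1 := s.Vs d (s.DV hd)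

theorem conjM {g v : G} (hg : g ∈ R) (hv : v ∈ M) : g * v * g⁻¹ ∈ M :=
  (mem_normalizer_iff.1 (s.RM hg) v).1 hv

theorem conjM' {g v : G} (hg : g ∈ R) (hv : v ∈ M) : g⁻¹ * v * g ∈ M := by
  have := s.conjM (inv_mem hg) hv
  rwa [inv_inv] at this

/-- an element of odd order of `R` which fixes `uD` centralises `u` -/
theorem odd_comm {g w : G} (hg : g ∈ R) (ho : Odd (orderOf g)) (h1 : g * w * g⁻¹ * w⁻¹ ∈ D) : g * w = w * g :=
  FF.odd_comm (d := g * w * g⁻¹ * w⁻¹) ho (by group) (s.Dc _ h1 g hg) (s.Ds h1)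

/-- `R` does not fix `uD` if `u ∈ V - D` -/
theorem notfix {w : G} (hw : w ∈ V) (hwD : w ∉ D) : ¬ ∀ g ∈ R, Odd (orderOf g) → g * w * g⁻¹ * w⁻¹ ∈ D := by
  intro h1
  apply s.notM
  exact s.gen_le s.TM fun g hg ho => s.st w hw hwD g hg (s.odd_comm hg ho (h1 g hg ho))

/-- conjugation by `x ∈ R` fixes `D` -/
theorem conjD {x d : G} (hx : x ∈ R) (hd : d ∈ D) : x * d * x⁻¹ = d := by
  rw [s.Dc d hd x hx, mul_inv_cancel_right]

theorem comm4 {a b : G} (ha : a ∈ M) (hb : b ∈ M) : a * b = b * a := s.Mc a ha b hb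

/-- `[t, v w] = [t, v] [t, w]` -/
theorem cmul {t v w : G} (ht : t ∈ R) (hv : v ∈ M) (hw : w ∈ M) :
    t * (v * w) * t⁻¹ * (v * w)⁻¹ = (t * v * t⁻¹ * v⁻¹) * (t * w * t⁻¹ * w⁻¹) := by
  have h1 : (t * w * t⁻¹) * (w⁻¹ * v⁻¹) = (w⁻¹ * v⁻¹) * (t * w * t⁻¹) :=
    s.comm4 (s.conjM ht hw) (mul_mem (inv_mem hw) (inv_mem hv))
  have h2 : w⁻¹ * v⁻¹ = v⁻¹ * w⁻¹ := s.comm4 (inv_mem hw) (inv_mem hv)
  have h3 : (t * w * t⁻¹) * w⁻¹ = w⁻¹ * (t * w * t⁻¹) := s.comm4 (s.conjM ht hw) (inv_mem hw)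
  calc t * (v * w) * t⁻¹ * (v * w)⁻¹ = (t * v * t⁻¹) * ((t * w * t⁻¹) * (w⁻¹ * v⁻¹)) := by group
    _ = (t * v * t⁻¹) * ((w⁻¹ * v⁻¹) * (t * w * t⁻¹)) := by rw [h1]
    _ = (t * v * t⁻¹) * (v⁻¹ * (w⁻¹ * (t * w * t⁻¹))) := by rw [h2]; group
    _ = _ := by rw [← h3]; group

/-- the kernel of `R` on `M / D` -/
def KR (s : Stp V Q T R M0 D E M h Rel) : Subgroup G where
  carrier := {g | g ∈ R ∧ ∀ v ∈ M, g * v * g⁻¹ * v⁻¹ ∈ D}
  one_mem' := ⟨one_mem _, fun v _ => by simp [one_mem]⟩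
  mul_mem' := by
    rintro a b ⟨ha, ha2⟩ ⟨hb, hb2⟩
    refine ⟨mul_mem ha hb, fun v hv => ?_⟩
    have h1 := ha2 _ (s.conjM hb hv)
    have h2 := mul_mem h1 (hb2 v hv)
    have e : a * b * v * (a * b)⁻¹ * v⁻¹ =
        a * (b * v * b⁻¹) * a⁻¹ * (b * v * b⁻¹)⁻¹ * (b * v * b⁻¹ * v⁻¹) := by group
    rw [e]
    exact h2
  inv_mem' := by
    rintro a ⟨ha, ha2⟩
    refine ⟨inv_mem ha, fun v hv => ?_⟩
    have h1 := inv_mem (ha2 _ (s.conjM' ha hv))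
    have e : a⁻¹ * v * a⁻¹⁻¹ * v⁻¹ = (a * (a⁻¹ * v * a) * a⁻¹ * (a⁻¹ * v * a)⁻¹)⁻¹ := by group
    rw [e]
    exact h1

omit s in
theorem mem_KR {s : Stp V Q T R M0 D E M h Rel} {g : G} :
    g ∈ s.KR ↔ g ∈ R ∧ ∀ v ∈ M, g * v * g⁻¹ * v⁻¹ ∈ D := Iff.rfl

theorem KR_conj {g x : G} (hg : g ∈ s.KR) (hx : x ∈ R) : x * g * x⁻¹ ∈ s.KR := by
  refine ⟨mul_mem (mul_mem hx hg.1) (inv_mem hx), fun v hv => ?_⟩
  have h1 := hg.2 _ (s.conjM' hx hv)
  have e : x * g * x⁻¹ * v * (x * g * x⁻¹)⁻¹ * v⁻¹ =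
      x * (g * (x⁻¹ * v * x) * g⁻¹ * (x⁻¹ * v * x)⁻¹) * x⁻¹ := by group
  rw [e, s.conjD hx h1]
  exact h1

theorem KR_normal : (s.KR.subgroupOf R).Normal := by
  refine ⟨fun g hg x => ?_⟩
  exact s.KR_conj hg x.2

/-- the stabiliser of `hD` in `R` -/
def SH (s : Stp V Q T R M0 D E M h Rel) : Subgroup G where
  carrier := {g | g ∈ R ∧ g * h * g⁻¹ * h⁻¹ ∈ D}
  one_mem' := ⟨one_mem _, by simp [one_mem]⟩
  mul_mem' := by
    rintro a b ⟨ha, ha2⟩ ⟨hb, hb2⟩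
    refine ⟨mul_mem ha hb, ?_⟩
    have h1 := s.conjD ha hb2
    have e : a * b * h * (a * b)⁻¹ * h⁻¹ = (a * (b * h * b⁻¹ * h⁻¹) * a⁻¹) * (a * h * a⁻¹ * h⁻¹) := by group
    rw [e, h1]
    exact mul_mem hb2 ha2
  inv_mem' := by
    rintro a ⟨ha, ha2⟩
    refine ⟨inv_mem ha, ?_⟩
    have h1 := s.conjD (inv_mem ha) (inv_mem ha2)
    have e : a⁻¹ * h * a⁻¹⁻¹ * h⁻¹ = a⁻¹ * (a * h * a⁻¹ * h⁻¹)⁻¹ * a⁻¹⁻¹ := by group
    rw [e, h1]
    exact inv_mem ha2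

theorem SH_ne : ¬ R ≤ s.SH := fun h1 => s.notfix s.hV s.hD fun _ hg _ => (h1 hg).2

theorem KR_le_SH : s.KR ≤ s.SH := fun _ hg => ⟨hg.1, hg.2 h s.hM⟩

theorem T_le_SH : T ≤ s.SH := fun t ht => ⟨s.TR ht, s.hT t ht⟩

theorem sup_ne {P : Sylow 2 R} (hP : (P : Subgroup R) = T.subgroupOf R) :
    s.KR.subgroupOf R ⊔ (P : Subgroup R) ≠ ⊤ := by
  intro h1
  have h2 : s.KR.subgroupOf R ⊔ (P : Subgroup R) ≤ s.SH.subgroupOf R := by
    rw [hP]
    exact sup_le (comap_mono s.KR_le_SH) (comap_mono s.T_le_SH)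
  rw [h1, top_le_iff, subgroupOf_eq_top] at h2
  exact s.SH_ne h2

/-- the kernel is in `M0` -/
theorem KR_le : s.KR ≤ M0 := by
  obtain ⟨P, hP⟩ := s.exists_sylow
  have h1 := le_sup_left.trans ((s.isMin hP).le_of _ le_sup_right (s.sup_ne hP))
  intro g hg
  exact h1 (show (⟨g, hg.1⟩ : R) ∈ s.KR.subgroupOf R from hg)

/-- an element of `T` which is trivial on `M / D` is in `O₂(R)` -/
theorem kerT {t : G} (ht : t ∈ T) (hk : t ∈ s.KR) : t ∈ o2 R := by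
  have hfact : Fact (Nat.Prime 2) := ⟨Nat.prime_two⟩
  obtain ⟨P, hP⟩ := s.exists_sylow
  have hn := s.KR_normal
  have h1 := (sup_eq_top_or_inf_le (s.isMin hP) (s.KR.subgroupOf R)).resolve_left (s.sup_ne hP)
  have h2 : (⟨t, s.TR ht⟩ : R) ∈ pCore 2 R := h1 ⟨by rw [hP]; exact ht, hk⟩
  exact ⟨_, h2, rfl⟩

/-- `[M, O₂(R)] ≤ E` -/
theorem o2_E {t v : G} (ht : t ∈ o2 R) (hv : v ∈ M) : t * v * t⁻¹ * v⁻¹ ∈ E := by
  let K : Subgroup G :=
    { carrier := {v | v ∈ M ∧ ∀ t ∈ o2 R, t * v * t⁻¹ * v⁻¹ ∈ E}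
      one_mem' := ⟨one_mem _, fun t _ => by simp [one_mem]⟩
      mul_mem' := by
        rintro a b ⟨ha, ha2⟩ ⟨hb, hb2⟩
        refine ⟨mul_mem ha hb, fun t ht => ?_⟩
        rw [s.cmul (o2_le R ht) ha hb]
        exact mul_mem (ha2 t ht) (hb2 t ht)
      inv_mem' := by
        rintro a ⟨ha, ha2⟩
        refine ⟨inv_mem ha, fun t ht => ?_⟩
        have e : a⁻¹ = a := inv_eq_of_mul_eq_one_right (s.Ms a ha)
        rw [e]
        exact ha2 t ht }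
  have h1 : M ≤ K := by
    apply s.Mgen
    · intro d hd
      refine ⟨s.DM hd, fun t ht => ?_⟩
      rw [s.conjD (o2_le R ht) hd, mul_inv_cancel]
      exact one_mem _
    · intro x hx
      refine ⟨s.conjM hx s.hM, fun t ht => ?_⟩
      have h2 : x⁻¹ * t * x ∈ o2 R := by
        have := (mem_normalizer_iff.1 (le_normalizer_o2 R (inv_mem hx)) t).1 ht
        rwa [inv_inv] at this
      have h3 := s.hO _ h2
      have e : t * (x * h * x⁻¹) * t⁻¹ * (x * h * x⁻¹)⁻¹ =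
          x * (x⁻¹ * t * x * h * (x⁻¹ * t * x)⁻¹ * h⁻¹) * x⁻¹ := by group
      rw [e, s.conjD hx (s.ED h3)]
      exact h3
  exact (h1 hv).2 t ht

theorem o2_le_KR : o2 R ≤ s.KR := fun _ ht => ⟨o2_le R ht, fun _ hv => s.ED (s.o2_E ht hv)⟩

/-- a 2-element of the kernel is in `O₂(R)` -/
theorem two_ker {g : G} (hg : g ∈ s.KR) (h2 : ∃ n, g ^ 2 ^ n = 1) : g ∈ o2 R := by
  have hfact : Fact (Nat.Prime 2) := ⟨Nat.prime_two⟩
  obtain ⟨P, hP⟩ := s.exists_sylow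
  have h3 : IsPGroup 2 (zpowers (⟨g, hg.1⟩ : R)) := by
    obtain ⟨n, hn⟩ := h2
    refine IsPGroup.of_card_dvd_pow (n := n) ?_
    rw [Nat.card_zpowers]
    apply orderOf_dvd_of_pow_eq_one
    apply Subtype.ext
    simpa using hn
  obtain ⟨P', hP'⟩ := h3.exists_le_sylow
  obtain ⟨x, hx⟩ := MulAction.exists_smul_eq R P' P
  have h4 : x * (⟨g, hg.1⟩ : R) * x⁻¹ ∈ (P : Subgroup R) := by
    rw [← hx, Sylow.coe_subgroup_smul]
    exact ⟨⟨g, hg.1⟩, hP' (mem_zpowers _), rfl⟩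
  rw [hP] at h4
  have h5 : (x : G) * g * (x : G)⁻¹ ∈ T := h4
  have h6 := s.kerT h5 (s.KR_conj hg x.2)
  have h7 := (mem_normalizer_iff.1 (le_normalizer_o2 R (inv_mem x.2)) _).1 h6
  have e : (x : G)⁻¹ * ((x : G) * g * (x : G)⁻¹) * (x : G)⁻¹⁻¹ = g := by group
  rwa [e] at h7

/-- `[M, KR] ≤ E` -/
theorem ker_E {g v : G} (hg : g ∈ s.KR) (hv : v ∈ M) : g * v * g⁻¹ * v⁻¹ ∈ E := by
  obtain ⟨a, b, h1, h2, h3⟩ := exists_parts g
  have h4 : g ^ a ∈ o2 R := s.two_ker (pow_mem hg a) h2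
  have h5 := s.odd_comm (pow_mem hg b).1 h3 ((pow_mem hg b).2 v hv)
  have h6 := s.o2_E h4 hv
  have e : g * v * g⁻¹ * v⁻¹ = g ^ a * (g ^ b * v * (g ^ b)⁻¹) * (g ^ a)⁻¹ * v⁻¹ := by
    conv_lhs => rw [h1]
    group
  rw [e, h5, mul_inv_cancel_right]
  exact h6

/-- a group which fixes all `uD`, `u ∈ M` exactly: if `g, g'` have the same action on `M / D` then `g h g⁻¹` and
`g' h g'⁻¹` are equal modulo `E`. -/
theorem same {g g' : G} (hg : g ∈ R) (hg' : g' ∈ R) (he : ∀ v ∈ M, (g * v * g⁻¹) * (g' * v * g'⁻¹)⁻¹ ∈ D)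
    {v : G} (hv : v ∈ M) : (g * v * g⁻¹) * (g' * v * g'⁻¹)⁻¹ ∈ E := by
  have h1 : g'⁻¹ * g ∈ s.KR := by
    refine ⟨mul_mem (inv_mem hg') hg, fun w hw => ?_⟩
    have h2 := s.conjD (inv_mem hg') (he w hw)
    have e : g'⁻¹ * g * w * (g'⁻¹ * g)⁻¹ * w⁻¹ = g'⁻¹ * ((g * w * g⁻¹) * (g' * w * g'⁻¹)⁻¹) * g'⁻¹⁻¹ := by group
    rw [e, h2]
    exact he w hw
  have h3 := s.ker_E h1 hv
  have e : (g * v * g⁻¹) * (g' * v * g'⁻¹)⁻¹ = g' * (g'⁻¹ * g * v * (g'⁻¹ * g)⁻¹ * v⁻¹) * g'⁻¹ := by group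
  rw [e, s.conjD hg' (s.ED h3)]
  exact h3

end Stp

end Cfsg.Agent.Omega.NO3S.SN2.FF

end

section


/-!
# The FF step: the lemma on elements of order 3

If `x ∈ R` acts on `M / D` with `x q x⁻¹ ≡ x` or `x²` (and the squares), `q` centralises `h`, then
`[q, (x h x⁻¹)(x² h x⁻²)] ∈ E`.
-/

set_option autoImplicit false
set_option linter.unusedSectionVars false

namespace Cfsg.Agent.Omega.NO3S.SN2.FF

open Subgroup Cfsg Cfsg.Agent.ZN

universe u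

variable {G : Type u} [Group G]

/-- the same action on `M / D` -/
def Sim (D M : Subgroup G) (g g' : G) : Prop := ∀ v ∈ M, (g * v * g⁻¹) * (g' * v * g'⁻¹)⁻¹ ∈ D

variable [Finite G] {V Q T R M0 D E M : Subgroup G} {h : G} {Rel : Set (Subgroup G)}

namespace Stp

variable (s : Stp V Q T R M0 D E M h Rel)
include s

theorem qh {q : G} (hq : q ∈ Q) : q * h * q⁻¹ = h := by
  have h1 : h * q = q * h := mem_centralizer_iff.1 (s.QV hq) h s.hV
  rw [← h1, mul_inv_cancel_right]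

theorem qv {q v : G} (hq : q ∈ Q) (hv : v ∈ V) : q * v * q⁻¹ = v := by
  have h1 : v * q = q * v := mem_centralizer_iff.1 (s.QV hq) v hv
  rw [← h1, mul_inv_cancel_right]

theorem x3 {x q : G} (hx : x ∈ R) (hq : q ∈ R) (hqh : q * h * q⁻¹ = h)
    (h1 : (Sim D M (q * x * q⁻¹) x ∧ Sim D M ((q * x * q⁻¹) ^ 2) (x ^ 2)) ∨
      (Sim D M (q * x * q⁻¹) (x ^ 2) ∧ Sim D M ((q * x * q⁻¹) ^ 2) x)) :
    q * ((x * h * x⁻¹) * (x ^ 2 * h * (x ^ 2)⁻¹)) * q⁻¹ * ((x * h * x⁻¹) * (x ^ 2 * h * (x ^ 2)⁻¹))⁻¹ ∈ E := by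
  have hy : q * x * q⁻¹ ∈ R := mul_mem (mul_mem hq hx) (inv_mem hq)
  set y := q * x * q⁻¹ with hydef
  have e1 : q * (x * h * x⁻¹) * q⁻¹ = y * h * y⁻¹ := by
    have e : q * (x * h * x⁻¹) * q⁻¹ = y * (q * h * q⁻¹) * y⁻¹ := by rw [hydef]; group
    rw [e, hqh]
  have e2 : q * (x ^ 2 * h * (x ^ 2)⁻¹) * q⁻¹ = y ^ 2 * h * (y ^ 2)⁻¹ := by
    have hy2 : y ^ 2 = q * x ^ 2 * q⁻¹ := by rw [hydef, conj_pow]
    have e : q * (x ^ 2 * h * (x ^ 2)⁻¹) * q⁻¹ = y ^ 2 * (q * h * q⁻¹) * (y ^ 2)⁻¹ := by rw [hy2]; group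
    rw [e, hqh]
  have e3 : q * ((x * h * x⁻¹) * (x ^ 2 * h * (x ^ 2)⁻¹)) * q⁻¹ = (y * h * y⁻¹) * (y ^ 2 * h * (y ^ 2)⁻¹) := by
    rw [← e1, ← e2]; group
  rw [e3]
  have hA : y * h * y⁻¹ ∈ M := s.conjM hy s.hM
  have hB : y ^ 2 * h * (y ^ 2)⁻¹ ∈ M := s.conjM (pow_mem hy 2) s.hM
  have hA' : x * h * x⁻¹ ∈ M := s.conjM hx s.hM
  have hB' : x ^ 2 * h * (x ^ 2)⁻¹ ∈ M := s.conjM (pow_mem hx 2) s.hM
  set A := y * h * y⁻¹
  set B := y ^ 2 * h * (y ^ 2)⁻¹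
  set A' := x * h * x⁻¹
  set B' := x ^ 2 * h * (x ^ 2)⁻¹
  rcases h1 with ⟨h2, h3⟩ | ⟨h2, h3⟩
  · have h4 : A * A'⁻¹ ∈ E := s.same hy hx h2 s.hM
    have h5 : B * B'⁻¹ ∈ E := s.same (pow_mem hy 2) (pow_mem hx 2) h3 s.hM
    have e : A * B * (A' * B')⁻¹ = (A * A'⁻¹) * (B * B'⁻¹) := by
      have c1 : B'⁻¹ * A'⁻¹ = A'⁻¹ * B'⁻¹ := s.Mc _ (inv_mem hB') _ (inv_mem hA')
      have c2 : B * A'⁻¹ = A'⁻¹ * B := s.Mc _ hB _ (inv_mem hA')
      calc A * B * (A' * B')⁻¹ = A * B * (B'⁻¹ * A'⁻¹) := by rw [mul_inv_rev]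
        _ = A * (B * A'⁻¹) * B'⁻¹ := by rw [c1]; group
        _ = _ := by rw [c2]; group
    rw [e]
    exact mul_mem h4 h5
  · have h4 : A * B'⁻¹ ∈ E := s.same hy (pow_mem hx 2) h2 s.hM
    have h5 : B * A'⁻¹ ∈ E := s.same (pow_mem hy 2) hx h3 s.hM
    have e : A * B * (A' * B')⁻¹ = (A * B'⁻¹) * (B * A'⁻¹) := by
      have c2 : B * B'⁻¹ = B'⁻¹ * B := s.Mc _ hB _ (inv_mem hB')
      calc A * B * (A' * B')⁻¹ = A * (B * B'⁻¹) * A'⁻¹ := by rw [mul_inv_rev]; group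
        _ = _ := by rw [c2]; group
    rw [e]
    exact mul_mem h4 h5

/-- if `w ∈ u D` then `[q, w] = [q, u]` -/
theorem comm_eq {q w v : G} (hq : q ∈ R) (hv : v ∈ M) (hw : w ∈ M) (hd : w * v⁻¹ ∈ D) :
    q * v * q⁻¹ * v⁻¹ = q * w * q⁻¹ * w⁻¹ := by
  have h1 := s.conjD hq hd
  have e1 : q * w * q⁻¹ = (w * v⁻¹) * (q * v * q⁻¹) := by
    have e : q * w * q⁻¹ = (q * (w * v⁻¹) * q⁻¹) * (q * v * q⁻¹) := by group
    rw [e, h1]
  rw [e1]
  have hb : q * v * q⁻¹ ∈ M := s.conjM hq hv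
  have c1 : (w * v⁻¹) * (q * v * q⁻¹) = (q * v * q⁻¹) * (w * v⁻¹) := s.Mc _ (mul_mem hw (inv_mem hv)) _ hb
  have c2 : w * v⁻¹ * w⁻¹ = v⁻¹ := by
    rw [s.Mc _ hw _ (inv_mem hv), mul_inv_cancel_right]
  rw [c1]
  calc q * v * q⁻¹ * v⁻¹ = q * v * q⁻¹ * (w * v⁻¹ * w⁻¹) := by rw [c2]
    _ = _ := by group

end Stp

end Cfsg.Agent.Omega.NO3S.SN2.FF

end
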